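import Cfsg.Agent.TO.SM.Gen
import Cfsg.Agent.H430.CfSporOne
import Cfsg.Agent.H430.CfSporTwo
import Cfsg.Agent.S2047
import Cfsg.Agent.S2055

/-!
# S4817, section SM : the sporadic groups (helper51)
-/

set_option autoImplicit false

namespace Cfsg.Agent.TO.SM

open Cfsg Cfsg.Spor
open Cfsg.Agent.H430.CfSpor (ne_of_not_mem fi22_exists hn_exists)
open Cfsg.Agent.H430.CfBase (mul_self_eq_one)

variable {p : ℕ} [Fact p.Prime] {S : Type} [Group S] [Finite S]

theorem one_of (B : Blk) {T : Type} [Group T] (e : Nonempty (S ≃* T)) (h : Nat.card (Out T) = 1) : Row p S :=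
  have : Finite T := Finite.of_equiv S e.some.toEquiv
  Row.of_equiv e.some (row_one B h)

theorem inv_of (B : Blk) {T : Type} [Group T] (e : Nonempty (S ≃* T)) (h : Nat.card (Out T) = 2) (τ : MulAut T)
    (h1 : ∀ k, τ ≠ MulAut.conj k) (h2 : τ * τ = 1) : Row p S :=
  have : Finite T := Finite.of_equiv S e.some.toEquiv
  Row.of_equiv e.some (row_inv B h.le τ h1 h2)

theorem mult_of (B : Blk) {T : Type} [Group T] (e : Nonempty (S ≃* T)) (h : Nat.card (Out T) = 2)
    (h1 : HasCyclicSchurMultiplier T 3) : Row p S :=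
  have : Finite T := Finite.of_equiv S e.some.toEquiv
  Row.of_equiv e.some (row_mult B h.le (by norm_num) h1)

theorem j2_exists : ∃ α : MulAut J2, (∀ k, α ≠ MulAut.conj k) ∧ α * α = 1 := by
  have h1 : ∀ q, H55.OutGen.centerQuot H55.JTwo.al ≠ MulAut.conj q := fun q h => by
    obtain ⟨k, rfl⟩ := QuotientGroup.mk_surjective q
    apply H55.JTwo.al_not_inner_mod k
    intro g
    have h2 := congrArg (fun f : MulAut (J2.Refl.W ⧸ Subgroup.center J2.Refl.W) => f (QuotientGroup.mk g)) h
    simp only [MulAut.conj_apply] at h2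
    rw [H55.OutGen.centerQuot_mk, ← QuotientGroup.mk_mul, ← QuotientGroup.mk_inv, ← QuotientGroup.mk_mul, eq_comm,
      QuotientGroup.eq] at h2
    exact h2
  have h2 : ∀ x, H55.OutGen.centerQuot H55.JTwo.al (H55.OutGen.centerQuot H55.JTwo.al x) = x := by
    intro x
    obtain ⟨k, rfl⟩ := QuotientGroup.mk_surjective x
    rw [H55.OutGen.centerQuot_mk, H55.OutGen.centerQuot_mk]
    congr 1
    apply Subtype.ext
    rw [H55.JTwo.al_coe, H55.JTwo.al_coe, H55.JTwo.TH_inv]
    calc H55.JTwo.TH * (H55.JTwo.TH * (k : Equiv.Perm _) * H55.JTwo.TH) * H55.JTwo.TH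
        = (H55.JTwo.TH * H55.JTwo.TH) * (k : Equiv.Perm _) * (H55.JTwo.TH * H55.JTwo.TH) := by group
      _ = _ := by rw [H55.JTwo.TH_sq, one_mul, mul_one]
  refine ⟨(J2.Group.equivJ2.symm.trans (H55.OutGen.centerQuot H55.JTwo.al)).trans J2.Group.equivJ2, fun k h => ?_,
    mul_self_eq_one _ fun x => ?_⟩
  · apply h1 (J2.Group.equivJ2.symm k)
    ext x
    have h1 := congrArg (fun f : MulAut J2 => J2.Group.equivJ2.symm (f (J2.Group.equivJ2 x))) h
    simpa using h1
  · simp only [MulEquiv.trans_apply, MulEquiv.symm_apply_apply]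
    rw [h2, MulEquiv.apply_symm_apply]

theorem row_j3 (B : Blk) (h : IsoJ3 S) : Row p S := by
  obtain ⟨F, _, _, ω, hF, hω, e⟩ := h
  have H := Cfsg.Agent.J3.Core.good_of_card hF hω
  refine inv_of B e (S2067.result hF ω hω) (H55.OutGen.centerQuot (H55.JThree.phi hF H))
    (H55.OutGen.centerQuot_not_inner (H55.JThree.hom_center hF H) (H55.JThree.phi_not_inner hF H))
    (mul_self_eq_one _ fun x => ?_)
  obtain ⟨k, rfl⟩ := QuotientGroup.mk_surjective x
  rw [H55.OutGen.centerQuot_mk, H55.OutGen.centerQuot_mk]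
  congr 1
  exact Subtype.ext (H55.JThree.phiG_phiG hF H _)

theorem row_hs (B : Blk) (h : IsoHS S) : Row p S := by
  obtain ⟨D⟩ := KFacts.HS.exists_mod (L := HS) ⟨MulEquiv.refl _⟩
  refine inv_of B h S2072.result (D.au Cfsg.Agent.HN.Pres.gz) (ne_of_not_mem fun h => ?_) ?_
  · exact Cfsg.Agent.HN.HS100.gz_not_mem (D.mem_K_of_inner h)
  · rw [← map_mul, Cfsg.Agent.HN.LocFromFusion.gz_sq, _root_.map_one]

theorem row_m22 (B : Blk) (h : IsoM22 S) : Row p S := by
  have : Finite M22 := Finite.of_equiv S h.some.toEquiv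
  refine Row.of_equiv h.some (row_ord B S2062.result.le fun q hq h1 h2 => ?_)
  rw [show Nat.card M22 = 443520 from SporadicA.MathieuRecog.card_M22] at h2
  have h3 : q < 700 := by
    have := Nat.le_of_dvd (by norm_num) h2
    nlinarith
  have h4 : ∀ q < 700, q % 4 = 1 → q ^ 2 ∣ 443520 → q = 1 := by decide +kernel
  exact hq.one_lt.ne' (h4 q h3 h1 h2)

theorem rowSpor (B : Blk) : RowFor (fun _ S _ => IsSporadicGroup S) := by
  intro p _ _ S _ _ _ _ h
  have hON : IsON ON := S1699.result
  rcases h with h | h | h | h | h | h | h | h | h | h | h | h | h | h | h | h | h | h | h | h | h | h | h | h | h | h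
  · exact one_of B h S2060.result
  · exact inv_of B h S2061.result OddHalf.Table.OutMTwelve.al (ne_of_not_mem S2061.al_not_inner)
      OddHalf.Table.OutMTwelve.al_mul_al
  · exact row_m22 B h
  · exact one_of B h S2063.result
  · exact one_of B h S2064.result
  · exact one_of B h S2065.result
  · exact j2_exists.elim fun α a => inv_of B h S2066.result α a.1 a.2
  · exact row_j3 B h
  · exact one_of B h S2068.result
  · exact one_of B h S2069.result
  · exact one_of B h S2070.result
  · exact one_of B h S2071.result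
  · exact mult_of B h S2073.result S2047.result
  · exact row_hs B h
  · exact inv_of B h S2074.result KFacts.SuzRho.rho H997.OutSuz.rho_outer KFacts.SuzRho.rho_sq
  · exact inv_of B h S2075.result H997.OutHe.rho H997.OutHe.rho_outer H997.OutHe.rho_sq
  · exact one_of B h S2077.result
  · exact inv_of B h S2078.result (UGT.C.BalON.bt hON) (ne_of_not_mem (S2078.bt_not_inner hON)) (UGT.C.BalON.bt_bt hON)
  · exact one_of B h S2076.result
  · exact fi22_exists.elim fun α a => inv_of B h S2079.result α a.1 a.2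
  · exact one_of B h S2080.result
  · exact mult_of B h S2081.result S2055.result
  · exact hn_exists.elim fun α a => inv_of B h S2082.result α a.1 a.2
  · exact one_of B h S2083.result
  · exact one_of B h S2084.result
  · exact one_of B h S2085.result

end Cfsg.Agent.TO.SM
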