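import Cfsg.Agent.TO.SM.Alt
import Cfsg.Agent.TO.SM.Lie
import Cfsg.Agent.TO.SM.Spor

/-!
# S4817, section SM : `rowAlt rowSpor rowTits row_G23 row_G24 row_F42` (helper51)
-/
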