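import Cfsg.Agent.TO.SM.Gen
import Cfsg.Agent.S2119
import Cfsg.Agent.S0254

/-!
# S4817, section SM : the alternating groups (helper51)
-/

set_option autoImplicit false

namespace Cfsg.Agent.TO.SM

open Cfsg Equiv

theorem row_alt_ne (B : Blk) {p : ℕ} [Fact p.Prime] {n : ℕ} (hn : 5 ≤ n) (h6 : n ≠ 6) :
    Row p ↥(alternatingGroup (Fin n)) := by
  have hb := S2119.result n (by omega) h6
  have hnt : Nontrivial (Fin n) := Fin.nontrivial_iff_two_le.2 (by omega)
  have h1 : (Inn ↥(alternatingGroup (Fin n))).comap MulAut.conjNormal = alternatingGroup (Fin n) := by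
    ext s
    constructor
    · rintro ⟨k, hk⟩
      have h2 : (k : Perm (Fin n)) = s := hb.1 (by rw [← hk]; ext x; rfl)
      exact h2 ▸ k.2
    · intro hs
      exact ⟨⟨s, hs⟩, by ext x; rfl⟩
  have h2 : (Inn ↥(alternatingGroup (Fin n))).index = 2 := by
    rw [← Subgroup.index_comap_of_surjective _ hb.2, h1, alternatingGroup.index_eq_two]
  obtain ⟨x, y, hxy⟩ := exists_pair_ne (Fin n)
  refine row_inv B h2.le (MulAut.conjNormal (swap x y)) (fun k hk => ?_) (by rw [← map_mul, swap_mul_self, map_one])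
  have h3 : swap x y ∈ alternatingGroup (Fin n) := h1 ▸ ⟨k, hk.symm⟩
  rw [Perm.mem_alternatingGroup, Perm.sign_swap hxy] at h3
  exact absurd h3 (by decide)

theorem rowAlt (B : Blk) (hl : RowFor (fun p S _ => IsLieTypeChar p S)) : RowFor (fun _ S _ => IsAlternating S) := by
  rintro p _ hp S _ _ _ hS ⟨n, hn, ⟨e⟩⟩
  by_cases h6 : n = 6
  · subst h6
    by_cases h3 : p = 3
    · subst h3
      have : Fintype (GaloisField 3 2) := Fintype.ofFinite _
      have h9 : Fintype.card (GaloisField 3 2) = 9 := by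
        rw [← Nat.card_eq_fintype_card, GaloisField.card 3 2 (by norm_num)]
        rfl
      exact hl 3 hp S hS (Or.inl ⟨GaloisField 3 2, _, _, inferInstance, 2, le_rfl, fun _ => by omega,
        ⟨e.trans (S0254.result h9).some.symm⟩⟩)
    · refine Row.of_equiv e (row_cyc B fun h => ?_)
      have h1 : Nat.card ↥(alternatingGroup (Fin 6)) = 360 := by
        have h2 := two_mul_nat_card_alternatingGroup (α := Fin 6)
        rw [Nat.card_perm, Nat.card_fin, show Nat.factorial 6 = 720 from rfl] at h2
        omega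
      rw [h1] at h
      have h2 : p < 19 := by
        have := Nat.le_of_dvd (by norm_num) h
        nlinarith
      have h4 : ∀ q < 19, q ^ 2 ∣ 360 → q = 1 ∨ q = 2 ∨ q = 3 ∨ q = 6 := by decide
      have h5 : p.Prime := Fact.out
      rcases h4 p h2 h with rfl | rfl | rfl | rfl
      exacts [absurd h5 (by norm_num), hp rfl, h3 rfl, absurd h5 (by norm_num)]
  · exact Row.of_equiv e (row_alt_ne B hn h6)

end Cfsg.Agent.TO.SM
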